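import Mathlib.AlgebraicGeometry.Morphisms.FormallyUnramified
import Mathlib.AlgebraicGeometry.Morphisms.FlatMono
import Mathlib.AlgebraicGeometry.Morphisms.Immersion
import Mathlib.AlgebraicGeometry.Noetherian
import Mathlib.RingTheory.Nakayama

/-!
# Coincidence loci of maps to formally unramified schemes
-/

set_option autoImplicit false
set_option linter.all false
set_option backward.isDefEq.respectTransparency false
universe u

open CategoryTheory Limits AlgebraicGeometry TopologicalSpace

noncomputable section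

namespace GrothLib.EtImage10

theorem isNilpotent_ker_specMap {A B : Type u} [CommRing A] [CommRing B] (ρ : A →+* B)
    (h : ∀ x y, ρ x = 0 → ρ y = 0 → x * y = 0) : IsNilpotent (Spec.map (CommRingCat.ofHom ρ)).ker := by
  refine ⟨2, Scheme.IdealSheafData.ext_of_isAffine ?_⟩
  rw [Scheme.IdealSheafData.ideal_pow]
  change _ = ((⊥ : Scheme.IdealSheafData _)).ideal _
  rw [Scheme.IdealSheafData.ideal_bot, Pi.pow_apply, Scheme.Hom.ker_apply, Pi.bot_apply, eq_bot_iff, pow_two, Ideal.mul_le]
  intro x hx y hy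
  let e := (Scheme.ΓSpecIso (CommRingCat.of A)).hom
  have he : ∀ x, (Spec.map (CommRingCat.ofHom ρ)).appTop x = 0 → ρ (e.hom x) = 0 := by
    intro x hx
    have := congrArg (fun φ : _ ⟶ CommRingCat.of B => φ.hom x) (Scheme.ΓSpecIso_naturality (CommRingCat.ofHom ρ))
    simp only [CommRingCat.hom_comp, RingHom.comp_apply] at this
    rw [hx, map_zero] at this
    exact this.symm
  refine ((ConcreteCategory.isIso_iff_bijective e).1 inferInstance).1 ?_
  change e.hom (x * y) = e.hom 0
  rw [map_mul, map_zero]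
  exact h _ _ (he x hx) (he y hy)

variable {Z P Y S : Scheme.{u}}

/-- The locus where two maps to a formally unramified scheme agree is open. -/
theorem isOpenImmersion_of_coincidence [IsLocallyNoetherian P] (b : Y ⟶ S) [FormallyUnramified b]
    (p₁ p₂ : P ⟶ Y) (hp : p₁ ≫ b = p₂ ≫ b) (j : Z ⟶ P) [IsImmersion j]
    (hj : j ≫ p₁ = j ≫ p₂)
    (huniv : ∀ (T : Scheme.{u}) (t : T ⟶ P), t ≫ p₁ = t ≫ p₂ → ∃ l : T ⟶ Z, l ≫ j = t) :
    IsOpenImmersion j := by
  have hflat : Flat j := by
    refine Flat.of_stalkMap j fun z => RingHom.Flat.of_bijective ⟨?_, j.stalkMap_surjective z⟩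
    set φ := (j.stalkMap z).hom with hφ
    set I := RingHom.ker φ with hI
    let π : P.presheaf.stalk (j z) →+* P.presheaf.stalk (j z) ⧸ I ^ 2 := Ideal.Quotient.mk _
    let q : P.presheaf.stalk (j z) ⧸ I ^ 2 →+* Z.presheaf.stalk z :=
      Ideal.Quotient.lift (I ^ 2) φ fun a ha => (Ideal.pow_le_self (by norm_num) ha : a ∈ I)
    have hq : q.comp π = φ := Ideal.Quotient.lift_comp_mk (I ^ 2) φ _
    have hqs : Function.Surjective q := fun b => by
      obtain ⟨a, rfl⟩ := j.stalkMap_surjective z b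
      exact ⟨π a, RingHom.congr_fun hq a⟩
    have hq2 : ∀ x y, q x = 0 → q y = 0 → x * y = 0 := fun x y hx hy => by
      obtain ⟨a, rfl⟩ := Ideal.Quotient.mk_surjective x
      obtain ⟨c, rfl⟩ := Ideal.Quotient.mk_surjective y
      rw [← map_mul, Ideal.Quotient.eq_zero_iff_mem, pow_two]
      exact Ideal.mul_mem_mul (show φ a = 0 from hx) (show φ c = 0 from hy)
    let t : Spec (CommRingCat.of (P.presheaf.stalk (j z) ⧸ I ^ 2)) ⟶ P :=
      Spec.map (CommRingCat.ofHom π) ≫ P.fromSpecStalk (j z)
    let i : Spec (Z.presheaf.stalk z) ⟶ Spec (CommRingCat.of (P.presheaf.stalk (j z) ⧸ I ^ 2)) :=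
      Spec.map (CommRingCat.ofHom q)
    haveI : IsClosedImmersion i := IsClosedImmersion.spec_of_surjective _ hqs
    have hit : i ≫ t = Z.fromSpecStalk z ≫ j := by
      rw [← Scheme.SpecMap_stalkMap_fromSpecStalk, ← Category.assoc, ← Spec.map_comp]
      congr 2
    have ht : t ≫ p₁ = t ≫ p₂ :=
      FormallyUnramified.hom_ext i (isNilpotent_ker_specMap q hq2) b
        (by rw [reassoc_of% hit, reassoc_of% hit, hj])
        (by simp only [Category.assoc, hp])
    obtain ⟨l, hl⟩ := huniv _ t ht
    have hI2 : I ≤ I ^ 2 := by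
      intro a ha
      by_contra hna
      haveI : Nontrivial (P.presheaf.stalk (j z) ⧸ I ^ 2) := Ideal.Quotient.nontrivial_iff.2 fun e =>
        hna (e ▸ trivial)
      haveI : IsLocalRing (CommRingCat.of (P.presheaf.stalk (j z) ⧸ I ^ 2)) :=
        IsLocalRing.of_surjective' π Ideal.Quotient.mk_surjective
      haveI : IsLocalHom (CommRingCat.ofHom π).hom := IsLocalHom.of_surjective π Ideal.Quotient.mk_surjective
      set c : Spec (CommRingCat.of (P.presheaf.stalk (j z) ⧸ I ^ 2)) := IsLocalRing.closedPoint _ with hc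
      have hlz : l c = z := by
        refine j.isEmbedding.injective ?_
        rw [← Scheme.Hom.comp_apply, hl]
        show (Spec.map (CommRingCat.ofHom π) ≫ P.fromSpecStalk (j z)) c = j z
        rw [Scheme.Hom.comp_apply, hc, Spec_closedPoint]
        exact Scheme.fromSpecStalk_closedPoint
      obtain ⟨U, hU, s, rfl⟩ := P.presheaf.exists_germ_eq (x := j z) a
      have h0 : Z.presheaf.germ (j ⁻¹ᵁ U) z hU (j.app U s) = 0 := by
        rw [← j.germ_stalkMap_apply U z hU s]
        exact ha
      obtain ⟨W, hzW, i₁, i₂, hW⟩ := Z.presheaf.germ_eq z (show z ∈ j ⁻¹ᵁ U from hU) (show z ∈ j ⁻¹ᵁ U from hU) (j.app U s) 0 (h0.trans (map_zero _).symm)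
      rw [map_zero] at hW
      have hlU : (l ≫ j) c ∈ U := by
        rw [Scheme.Hom.comp_apply, hlz]; exact hU
      have htU : t c ∈ U := hl ▸ hlU
      have h1 : (P.presheaf.germ U (t c) htU ≫ Scheme.stalkClosedPointTo t) s = π (P.presheaf.germ U (j z) hU s) := by
        rw [Scheme.germ_stalkClosedPointTo_Spec_fromSpecStalk (CommRingCat.ofHom π) U htU]
        rfl
      have h2 : ∀ (t' : Spec (CommRingCat.of (P.presheaf.stalk (j z) ⧸ I ^ 2)) ⟶ P) (e : t' = t)
          (h' : t' c ∈ U), (P.presheaf.germ U (t' c) h' ≫ Scheme.stalkClosedPointTo t') s =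
            (P.presheaf.germ U (t c) htU ≫ Scheme.stalkClosedPointTo t) s := by
        rintro _ rfl _; rfl
      have h3 : (P.presheaf.germ U ((l ≫ j) c) hlU ≫ Scheme.stalkClosedPointTo (l ≫ j)) s = 0 := by
        rw [Scheme.stalkClosedPointTo_comp]
        show Scheme.stalkClosedPointTo l (j.stalkMap (l c) (P.presheaf.germ U (j (l c)) hlU s)) = 0
        rw [j.germ_stalkMap_apply U (l c) hlU s,
          ← TopCat.Presheaf.germ_res_apply Z.presheaf i₁ (l c) (hlz.symm ▸ hzW) (j.app U s), hW,
          map_zero, map_zero]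
      exact hna (Ideal.Quotient.eq_zero_iff_mem.1 ((h1.symm.trans (h2 _ hl hlU).symm).trans h3))
    exact (RingHom.injective_iff_ker_eq_bot φ).2 (Submodule.eq_bot_of_le_smul_of_le_jacobson_bot I I
      (IsNoetherian.noetherian I) (by rw [smul_eq_mul, ← pow_two]; exact hI2)
      ((IsLocalRing.le_maximalIdeal (RingHom.ker_ne_top φ)).trans (IsLocalRing.maximalIdeal_le_jacobson _)))
  haveI := hflat
  exact IsOpenImmersion.of_flat_of_mono j

end GrothLib.EtImage10
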