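import Groth.Agent.Lib.EtImage10.Basic
import Groth.Agent.Lib.AlgSp.BootstrapQuot
import Groth.Agent.Lib.AlgSp.LqfScheme
import Groth.Agent.Lib.AlgSp.UnramMono
import Groth.Agent.Lib.AlgSp.QuotRestrict
import Groth.Agent.Lib.AlgSp.FppfDescent
import Groth.Agent.S5938

/-!
# Scheme images of flat families in formally unramified schemes
-/

set_option autoImplicit false
set_option linter.all false
set_option backward.isDefEq.respectTransparency false
universe u

open CategoryTheory Limits AlgebraicGeometry TopologicalSpace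

noncomputable section

namespace GrothLib.EtImage10

variable {X Y S : Scheme.{u}}

/-- The comparison of fibre products over `Y` and `S`. -/
theorem isOpenImmersion_lift (a : X ⟶ S) [LocallyOfFiniteType a] [IsLocallyNoetherian S] (b : Y ⟶ S)
    [FormallyUnramified b] (h : X ⟶ Y) (w : h ≫ b = a) :
    ∃ j : pullback h h ⟶ pullback a a, IsOpenImmersion j ∧
      j ≫ pullback.fst a a = pullback.fst h h ∧ j ≫ pullback.snd a a = pullback.snd h h := by
  haveI : IsLocallyNoetherian X := LocallyOfFiniteType.isLocallyNoetherian a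
  haveI : IsLocallyNoetherian (pullback a a) := LocallyOfFiniteType.isLocallyNoetherian (pullback.fst a a)
  let j : pullback h h ⟶ pullback a a := pullback.mapDesc h h b ≫ (pullback.congrHom w w).hom
  have h1 : j ≫ pullback.fst a a = pullback.fst h h := by simp [j, pullback.congrHom, pullback.mapDesc]
  have h2 : j ≫ pullback.snd a a = pullback.snd h h := by simp [j, pullback.congrHom, pullback.mapDesc]
  haveI : IsImmersion j := by infer_instance
  refine ⟨j, isOpenImmersion_of_coincidence b (pullback.fst a a ≫ h) (pullback.snd a a ≫ h) ?_ j ?_ ?_, h1, h2⟩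
  · rw [Category.assoc, Category.assoc, w, pullback.condition]
  · rw [← Category.assoc, ← Category.assoc, h1, h2, pullback.condition]
  · intro T t ht
    refine ⟨pullback.lift (t ≫ pullback.fst a a) (t ≫ pullback.snd a a)
      (by rw [Category.assoc, Category.assoc, ht]), ?_⟩
    apply pullback.hom_ext
    · rw [Category.assoc, h1, pullback.lift_fst]
    · rw [Category.assoc, h2, pullback.lift_snd]

open _root_.AlgSp GrothLib.AlgSp in
/-- A morphism with flat, finitely presented kernel pair and locally of finite type factors as an fppf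
cover followed by a monomorphism. -/
theorem exists_fppf_mono (h : X ⟶ Y) [LocallyOfFiniteType h] [Flat (pullback.fst h h)]
    [LocallyOfFinitePresentation (pullback.fst h h)] :
    ∃ (E : Scheme.{u}) (u : X ⟶ E) (m : E ⟶ Y), Flat u ∧ Surjective u ∧ LocallyOfFinitePresentation u ∧
      Mono m ∧ LocallyOfFiniteType m ∧ u ≫ m = h := by
  let U : Over Y := Over.mk h
  let R : Over Y := Over.mk (pullback.fst h h ≫ h)
  let s : R ⟶ U := Over.homMk (pullback.fst h h) rfl
  let t : R ⟶ U := Over.homMk (pullback.snd h h) pullback.condition.symm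
  haveI : Flat s.left := ‹Flat (pullback.fst h h)›
  haveI : LocallyOfFinitePresentation s.left := ‹LocallyOfFinitePresentation (pullback.fst h h)›
  have hall : ∀ (T : Over Y) (x y : T ⟶ U), ∃ r : T ⟶ R, r ≫ t = x ∧ r ≫ s = y := fun T x y => by
    refine ⟨Over.homMk (pullback.lift y.left x.left ((Over.w y).trans (Over.w x).symm)) ?_, ?_, ?_⟩
    · show pullback.lift y.left x.left _ ≫ pullback.fst h h ≫ h = T.hom
      rw [pullback.lift_fst_assoc]
      exact Over.w y
    · apply Over.OverMorphism.ext
      exact pullback.lift_snd _ _ _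
    · apply Over.OverMorphism.ext
      exact pullback.lift_fst _ _ _
  have heq : IsEqvRel s t := by
    refine ⟨fun T r r' e₁ e₂ => Over.OverMorphism.ext (pullback.hom_ext (congrArg (fun m => m.left) e₂)
      (congrArg (fun m => m.left) e₁)), fun T => ⟨fun x => hall T x x, fun {x y} _ => hall T y x,
        fun {x y z} _ _ => hall T x z⟩⟩
  let K := Scheme.fppfPrecoverage.{u}
  let Q := QuotSh.quot K s t
  let π : (yon Y).obj U ⟶ Q := yonQuotπ s t
  haveI hls : Sheaf.IsLocallySurjective π := isLocallySurjective_yonQuotπ s t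
  have sq := isPullback_yonQuotπ heq
  obtain ⟨hd, hπf, hπp, hπs⟩ := fppf_chart_of_kernelPair sq
  have hQ : IsAlgSpace Q := isAlgSpace_of_fppf_chart hd hπf hπp hπs
  let T₀ : Over Y := Over.mk (𝟙 Y)
  have huni : ∀ {V : Over Y} (x y : (yon Y).obj V ⟶ (yon Y).obj T₀), x = y := fun {V} x y => by
    obtain ⟨x, rfl⟩ := (yon Y).map_surjective x
    obtain ⟨y, rfl⟩ := (yon Y).map_surjective y
    congr 1
    exact Over.OverMorphism.ext ((Category.comp_id x.left).symm.trans ((Over.w x).trans
      ((Over.w y).symm.trans (Category.comp_id y.left))))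
  let q : U ⟶ T₀ := Over.homMk h (Category.comp_id h)
  let f : Q ⟶ (yon Y).obj T₀ :=
    QuotSh.quotDesc K q (Over.OverMorphism.ext (by simp [s, t, q, pullback.condition])) ≫
      (QuotSh.repIsoUliftYoneda K T₀).hom
  haveI : Mono f := mono_of_yon fun T x y _ => by
    obtain ⟨V, c, lx, hcf, hcl, hcs, hlx⟩ := exists_fppf_lift π x
    obtain ⟨V', c', ly, hcf', hcl', hcs', hly⟩ := exists_fppf_lift π ((yon Y).map c ≫ y)
    obtain ⟨α, hα⟩ := (yon Y).map_surjective ((yon Y).map c' ≫ lx)
    obtain ⟨β, hβ⟩ := (yon Y).map_surjective ly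
    obtain ⟨r, hr1, hr2⟩ := hall V' α β
    have e : (yon Y).map α ≫ π = (yon Y).map β ≫ π := by
      rw [← hr1, ← hr2, Functor.map_comp, Functor.map_comp, Category.assoc, Category.assoc, sq.w]
    rw [hα, hβ, hly, Category.assoc, hlx] at e
    haveI := isLocallySurjective_yon_map c hcf hcl hcs
    haveI := isLocallySurjective_yon_map c' hcf' hcl' hcs'
    haveI : Epi ((yon Y).map c) := (Sheaf.isLocallySurjective_iff_epi _).1 inferInstance
    haveI : Epi ((yon Y).map c') := (Sheaf.isLocallySurjective_iff_epi _).1 inferInstance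
    exact (cancel_epi ((yon Y).map c)).1 ((cancel_epi ((yon Y).map c')).1 e)
  obtain ⟨W, p, hpe, hps⟩ := hQ.atlas
  obtain ⟨W', x', y', sqW⟩ := exists_isPullback_of_representable hπf.1 p
  obtain ⟨x', rfl⟩ := (yon Y).map_surjective x'
  haveI : Etale x'.left := hpe.2 _ _ _ sqW.flip
  haveI : Flat y'.left := hπf.2 _ _ _ sqW
  haveI : LocallyOfFinitePresentation y'.left := hπp.2 _ _ _ sqW
  haveI : Surjective y'.left := hπs.2 _ _ _ sqW
  haveI : LocallyOfFiniteType (y'.left ≫ W.hom) := by
    rw [Over.w y', ← Over.w x']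
    show LocallyOfFiniteType (x'.left ≫ h)
    infer_instance
  haveI hWl : LocallyOfFiniteType W.hom := Groth.Agent.S5938.result y'.left W.hom
  let w₀ : W ⟶ T₀ := Over.homMk W.hom (Category.comp_id W.hom)
  have hlft : LocP @LocallyOfFiniteType f :=
    GrothLib.AlgSp.EtLocal.locP_of_chart EtLocal.lft hpe hps (b := 𝟙 _) (repWith_iso _) (h := w₀)
      (by rw [Category.comp_id]; exact huni _ _) hWl
  obtain ⟨M, ⟨e⟩⟩ := exists_iso_yon_of_lqf_separated hQ f (locP_lqf_of_unramified (unramified_of_mono hlft))
    isSeparatedMor_of_mono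
  obtain ⟨u, hu⟩ := (yon Y).map_surjective (π ≫ e.inv)
  have hrep : ∀ {P : MorphismProperty Scheme.{u}} [P.IsStableUnderBaseChange] [P.RespectsIso],
      RepWith P π → P u.left := fun {P} _ _ hP => by
    refine (repWith_yon_map_iff P u).1 ?_
    rw [hu]
    exact (MorphismProperty.cancel_right_of_respectsIso (RepWith P) π e.inv).2 hP
  haveI hu1 : Flat u.left := hrep hπf
  haveI hu2 : LocallyOfFinitePresentation u.left := hrep hπp
  haveI hu3 : Surjective u.left := hrep hπs
  haveI : Mono M.hom := ⟨fun {A} x y hxy => by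
    let A' : Over Y := Over.mk (x ≫ M.hom)
    let x' : A' ⟶ M := Over.homMk x rfl
    let y' : A' ⟶ M := Over.homMk y hxy.symm
    have : (yon Y).map x' ≫ e.hom = (yon Y).map y' ≫ e.hom := by
      rw [← cancel_mono f]
      exact huni _ _
    exact congrArg (fun m => m.left) ((yon Y).map_injective ((cancel_mono e.hom).1 this))⟩
  haveI : LocallyOfFiniteType (u.left ≫ M.hom) := by
    rw [Over.w u]; exact ‹LocallyOfFiniteType h›
  refine ⟨M.left, u.left, M.hom, hu1, hu3, hu2, inferInstance, ?_, Over.w u⟩
  exact Groth.Agent.S5938.result u.left M.hom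

end GrothLib.EtImage10
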